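import Cfsg.Agent.Lib.Compute.Perm

/-!
# Kernel computation: permutations paired with monomial permutations

An element of `Equiv.Perm α × monoSub d q` (`α` of size `m`, the second factor commuting with all phase
shifts of `Fin d × ZMod q`) is coded by `m + d` digits: the images of the `m` points, then for each `j`
the number `q * image + phase` of `(j, 0)`. Points: `i < m`, and `m + q * j + phase`.
-/

set_option autoImplicit false

namespace Cfsg.Agent.Lib.Compute.Monomial

/-- Digit of a product at a monomial position. -/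
noncomputable def monoMul (w m q p r i : ℕ) : ℕ :=
  forceNat (getP w r i) fun v => forceNat (getP w p (m + v / q)) fun u =>
    q * (u / q) + (u % q + v % q) % q

/-- Product of codes, `r` first. -/
noncomputable def mulM (w m d q p r : ℕ) : ℕ :=
  packP w (fun i => bif Nat.blt i m then getP w p (getP w r i) else monoMul w m q p r i) (m + d)

/-- Image of a point. -/
noncomputable def actM (w m d q c x : ℕ) : ℕ :=
  bif Nat.blt x m then getP w c x
  else bif Nat.blt x (m + q * d) then
    forceNat (getP w c (m + (x - m) / q)) fun u =>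
      m + (q * (u / q) + (u % q + (x - m) % q) % q)
  else x

/-- The digits of the identity. -/
def oneDigit (m q i : ℕ) : ℕ := bif Nat.blt i m then i else q * (i - m)

/-- Operations on codes. -/
noncomputable def monOps (w m d q : ℕ) : Ops where
  mul := mulM w m d q
  one := packP w (oneDigit m q) (m + d)
  act := actM w m d q

/-- Permutations commuting with all phase shifts. -/
def monoSub (d q : ℕ) : Subgroup (Equiv.Perm (Fin d × ZMod q)) where
  carrier := {h | ∀ (x : Fin d × ZMod q) (t : ZMod q), h (x.1, x.2 + t) = ((h x).1, (h x).2 + t)}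
  one_mem' _ _ := rfl
  mul_mem' {a b} ha hb x t := by
    show a (b (x.1, x.2 + t)) = _
    rw [hb, ha]
    rfl
  inv_mem' {a} ha x t := a.injective (by rw [ha]; simp [Equiv.Perm.inv_def])

theorem monoSub_apply {d q : ℕ} (h : monoSub d q) (j : Fin d) (t : ZMod q) :
    h.1 (j, t) = ((h.1 (j, 0)).1, (h.1 (j, 0)).2 + t) := by
  have := h.2 (j, 0) t
  rwa [zero_add] at this

variable {α : Type*} {m d q : ℕ}

/-- Digits of an element. -/
def monImg (e : α ≃ Fin m) (g : Equiv.Perm α × monoSub d q) (i : ℕ) : ℕ :=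
  if i < m then imgP e g.1 i
  else if h' : i - m < d then
    q * ((g.2.1 (⟨i - m, h'⟩, 0)).1 : ℕ) + ((g.2.1 (⟨i - m, h'⟩, 0)).2).val
  else i

theorem monImg_left (e : α ≃ Fin m) (g : Equiv.Perm α × monoSub d q) {i : ℕ} (h : i < m) :
    monImg e g i = imgP e g.1 i := if_pos h

theorem monImg_right (e : α ≃ Fin m) (g : Equiv.Perm α × monoSub d q) (j : Fin d) :
    monImg e g (m + j) = q * ((g.2.1 (j, 0)).1 : ℕ) + ((g.2.1 (j, 0)).2).val := by
  rw [monImg, if_neg (by omega), dif_pos (show m + (j : ℕ) - m < d by omega)]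
  simp only [show (⟨m + (j : ℕ) - m, by omega⟩ : Fin d) = j from Fin.ext (Nat.add_sub_cancel_left m j)]

variable [NeZero q]

theorem digit_eq (a : ℕ) (t : ZMod q) :
    (q * a + t.val) / q = a ∧ (q * a + t.val) % q = t.val := by
  have := ZMod.val_lt t
  constructor
  · rw [Nat.mul_add_div (NeZero.pos q), Nat.div_eq_of_lt this, Nat.add_zero]
  · rw [Nat.mul_add_mod, Nat.mod_eq_of_lt this]

theorem mul_add_val_lt (a : Fin d) (t : ZMod q) : q * (a : ℕ) + t.val < q * d :=
  calc q * (a : ℕ) + t.val < q * a + q := Nat.add_lt_add_left (ZMod.val_lt t) _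
    _ = q * (a + 1) := by ring
    _ ≤ q * d := Nat.mul_le_mul_left _ a.isLt

theorem monImg_lt {w : ℕ} (hm : m ≤ 2 ^ w) (hd : q * d ≤ 2 ^ w) (e : α ≃ Fin m)
    (g : Equiv.Perm α × monoSub d q) {i : ℕ} (hi : i < m + d) : monImg e g i < 2 ^ w := by
  by_cases h : i < m
  · rw [monImg_left e g h]
    exact (imgP_lt e g.1 h).trans_le hm
  · obtain ⟨j, rfl⟩ := Nat.exists_eq_add_of_le (not_lt.1 h)
    rw [monImg_right e g ⟨j, by omega⟩]
    exact (mul_add_val_lt _ _).trans_le hd

theorem getP_monImg {w : ℕ} (hm : m ≤ 2 ^ w) (hd : q * d ≤ 2 ^ w) (e : α ≃ Fin m)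
    (g : Equiv.Perm α × monoSub d q) {i : ℕ} (hi : i < m + d) :
    getP w (packP w (monImg e g) (m + d)) i = monImg e g i :=
  getP_packP (fun _ hj => monImg_lt hm hd e g hj) hi

/-- The action on numbered points. -/
def monAct (e : α ≃ Fin m) (g : Equiv.Perm α × monoSub d q) (x : ℕ) : ℕ :=
  if x < m then imgP e g.1 x
  else if h : (x - m) / q < d then
    m + (q * ((g.2.1 (⟨(x - m) / q, h⟩, (((x - m) % q : ℕ) : ZMod q))).1 : ℕ) +
      ((g.2.1 (⟨(x - m) / q, h⟩, (((x - m) % q : ℕ) : ZMod q))).2).val)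
  else x

theorem monAct_right (e : α ≃ Fin m) (g : Equiv.Perm α × monoSub d q) (j : Fin d) (t : ZMod q) :
    monAct e g (m + (q * (j : ℕ) + t.val)) =
      m + (q * ((g.2.1 (j, t)).1 : ℕ) + ((g.2.1 (j, t)).2).val) := by
  obtain ⟨h1, h2⟩ := digit_eq (j : ℕ) t
  rw [monAct, if_neg (by omega)]
  simp only [Nat.add_sub_cancel_left, h1, h2, Fin.is_lt, dite_true, Fin.eta, ZMod.natCast_zmod_val]

theorem actM_eq {w : ℕ} (hm : m ≤ 2 ^ w) (hd : q * d ≤ 2 ^ w) (e : α ≃ Fin m)
    (g : Equiv.Perm α × monoSub d q) (x : ℕ) :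
    actM w m d q (packP w (monImg e g) (m + d)) x = monAct e g x := by
  unfold actM monAct
  by_cases h : x < m
  · rw [show Nat.blt x m = true by simpa [Nat.blt_eq] using h, cond_true, if_pos h,
      getP_monImg hm hd e g (by omega), monImg_left e g h]
  · rw [show Nat.blt x m = false from Bool.eq_false_iff.2 (by simpa [Nat.blt_eq] using h),
      cond_false, if_neg h]
    by_cases h' : (x - m) / q < d
    · have hx : x < m + q * d := by
        have := (Nat.div_lt_iff_lt_mul (NeZero.pos q)).1 h'
        rw [Nat.mul_comm] at this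
        omega
      rw [show Nat.blt x (m + q * d) = true by simpa [Nat.blt_eq] using hx, cond_true, dif_pos h',
        forceNat_eq, getP_monImg hm hd e g (by omega), monImg_right e g ⟨_, h'⟩,
        monoSub_apply g.2 ⟨_, h'⟩ (((x - m) % q : ℕ) : ZMod q)]
      obtain ⟨e1, e2⟩ := digit_eq ((g.2.1 (⟨(x - m) / q, h'⟩, 0)).1 : ℕ)
        (g.2.1 (⟨(x - m) / q, h'⟩, 0)).2
      rw [e1, e2, ZMod.val_add, ZMod.val_natCast]
      simp
    · have hx : ¬ x < m + q * d := by
        intro hc
        exact h' ((Nat.div_lt_iff_lt_mul (NeZero.pos q)).2 (by rw [Nat.mul_comm]; omega))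
      rw [show Nat.blt x (m + q * d) = false from Bool.eq_false_iff.2 (by simpa [Nat.blt_eq] using hx),
        cond_false, dif_neg h']

theorem monAct_mul (e : α ≃ Fin m) (g h : Equiv.Perm α × monoSub d q) (x : ℕ) :
    monAct e (g * h) x = monAct e g (monAct e h x) := by
  by_cases hx : x < m
  · have := imgP_lt e h.1 hx
    simp [monAct, hx, this, imgP_mul]
  · by_cases h' : (x - m) / q < d
    · conv_rhs => arg 3; rw [monAct, if_neg hx, dif_pos h']
      rw [monAct_right]
      conv_lhs => rw [monAct, if_neg hx, dif_pos h']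
      rfl
    · simp [monAct, hx, h']

theorem monImg_mul (e : α ≃ Fin m) (g h : Equiv.Perm α × monoSub d q) (j : Fin d) :
    monImg e (g * h) (m + j) = q * ((g.2.1 ((h.2.1 (j, 0)).1, 0)).1 : ℕ) +
      (((g.2.1 ((h.2.1 (j, 0)).1, 0)).2).val + ((h.2.1 (j, 0)).2).val) % q := by
  rw [monImg_right, ← ZMod.val_add]
  have := monoSub_apply g.2 (h.2.1 (j, 0)).1 (h.2.1 (j, 0)).2
  simp only [Prod.mk.eta] at this
  show q * ((g.2.1 (h.2.1 (j, 0))).1 : ℕ) + ((g.2.1 (h.2.1 (j, 0))).2).val = _
  rw [this]

theorem enc_one_eq (w : ℕ) (e : α ≃ Fin m) :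
    packP w (monImg e (1 : Equiv.Perm α × monoSub d q)) (m + d) = packP w (oneDigit m q) (m + d) := by
  refine packP_congr fun i hi => ?_
  by_cases h : i < m
  · rw [monImg_left e _ h, oneDigit, show Nat.blt i m = true by simpa [Nat.blt_eq] using h]
    simp [imgP, h]
  · obtain ⟨j, rfl⟩ := Nat.exists_eq_add_of_le (not_lt.1 h)
    rw [monImg_right e _ ⟨j, by omega⟩, oneDigit,
      show Nat.blt (m + j) m = false from Bool.eq_false_iff.2 (by simp [Nat.blt_eq])]
    simp

/-- The coding. -/
noncomputable def monCoding (w : ℕ) (e : α ≃ Fin m) (hm : m ≤ 2 ^ w) (hd : q * d ≤ 2 ^ w) :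
    Coding (Equiv.Perm α × monoSub d q) (monOps w m d q) where
  enc g := packP w (monImg e g) (m + d)
  inj g h hgh := by
    have key : ∀ i < m + d, monImg e g i = monImg e h i := fun i hi => by
      rw [← getP_monImg hm hd e g hi, ← getP_monImg hm hd e h hi]
      exact congrArg (fun c => getP w c i) hgh
    refine Prod.ext (Equiv.ext fun a => ?_) (Subtype.ext (Equiv.ext fun x => ?_))
    · have := key (e a) (by omega)
      rw [monImg_left e g (e a).isLt, monImg_left e h (e a).isLt] at this
      simp only [imgP, Fin.is_lt, dite_true, Fin.eta, Equiv.symm_apply_apply] at this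
      exact e.injective (Fin.ext this)
    · obtain ⟨j, t⟩ := x
      have := key (m + j) (by omega)
      rw [monImg_right, monImg_right] at this
      have h1 := congrArg (· / q) this
      have h2 := congrArg (· % q) this
      simp only [(digit_eq _ _).1] at h1
      simp only [(digit_eq _ _).2] at h2
      rw [monoSub_apply g.2, monoSub_apply h.2, Fin.ext h1, ZMod.val_injective q h2]
  mul_enc g h := by
    show mulM w m d q _ _ = _
    refine packP_congr fun i hi => ?_
    by_cases him : i < m
    · rw [show Nat.blt i m = true by simpa [Nat.blt_eq] using him, cond_true, getP_monImg hm hd e h hi,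
        monImg_left e h him, getP_monImg hm hd e g ((imgP_lt e h.1 him).trans_le (Nat.le_add_right _ _)),
        monImg_left e g (imgP_lt e h.1 him), monImg_left e _ him, Prod.fst_mul, imgP_mul]
    · obtain ⟨j, rfl⟩ := Nat.exists_eq_add_of_le (not_lt.1 him)
      have hj : j < d := by omega
      rw [show Nat.blt (m + j) m = false from Bool.eq_false_iff.2 (by simp [Nat.blt_eq]), cond_false,
        monoMul, forceNat_eq, forceNat_eq, getP_monImg hm hd e h hi, monImg_right e h ⟨j, hj⟩,
        monImg_mul e g h ⟨j, hj⟩, (digit_eq _ _).1, (digit_eq _ _).2,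
        getP_monImg hm hd e g (Nat.add_lt_add_left (Fin.is_lt _) _), monImg_right e g,
        (digit_eq _ _).1, (digit_eq _ _).2]
  one_enc := enc_one_eq w e
  act_one x := by
    show actM w m d q (packP w (oneDigit m q) (m + d)) x = x
    rw [← enc_one_eq (d := d) (q := q) w e, actM_eq hm hd, monAct]
    split
    next h => simp [imgP, h]
    next h =>
      split
      next h' =>
        simp only [Prod.snd_one, OneMemClass.coe_one, Equiv.Perm.one_apply, ZMod.val_natCast,
          Nat.mod_mod, Nat.div_add_mod]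
        omega
      next => rfl
  act_mul g h x := by
    show actM w m d q _ x = actM w m d q _ (actM w m d q _ x)
    rw [actM_eq hm hd, actM_eq hm hd, actM_eq hm hd, monAct_mul]

theorem monCoding_enc (w : ℕ) (e : α ≃ Fin m) (hm : m ≤ 2 ^ w) (hd : q * d ≤ 2 ^ w)
    (g : Equiv.Perm α × monoSub d q) :
    (monCoding w e hm hd).enc g = packP w (monImg e g) (m + d) := rfl

/-- One direction of the check that two codes are mutually inverse monomial permutations. -/
noncomputable def monHalf (w m d q a b : ℕ) : Bool :=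
  (List.range d).all fun j =>
    forceNat (getP w a (m + j)) fun v => forceNat (getP w b (m + v / q)) fun u =>
      Nat.blt v (q * d) && Nat.beq (u / q) j && Nat.beq ((u % q + v % q) % q) 0

/-- A pair of codes is a packed element with its inverse. -/
noncomputable def monCheck (w m d q : ℕ) (p : ℕ × ℕ) : Bool :=
  permCheck w m p.1 p.2 && monHalf w m d q p.1 p.2 && monHalf w m d q p.2 p.1 &&
  Nat.beq (packP w (getP w p.1) (m + d)) p.1 && Nat.beq (packP w (getP w p.2) (m + d)) p.2

/-- The map on `Fin d × ZMod q` given by digits. -/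
def monFun (f : Fin d → Fin d × ZMod q) (x : Fin d × ZMod q) : Fin d × ZMod q :=
  ((f x.1).1, (f x.1).2 + x.2)

omit [NeZero q] in
theorem monHalf_spec {w a b : ℕ} (h : monHalf w m d q a b = true) (j : Fin d) :
    getP w a (m + j) < q * d ∧ getP w b (m + getP w a (m + j) / q) / q = j ∧
      (getP w b (m + getP w a (m + j) / q) % q + getP w a (m + j) % q) % q = 0 := by
  have := List.all_eq_true.1 h j (List.mem_range.2 j.isLt)
  simp only [forceNat_eq, Bool.and_eq_true, Nat.blt_eq] at this
  exact ⟨this.1.1, Nat.eq_of_beq_eq_true this.1.2, Nat.eq_of_beq_eq_true this.2⟩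

/-- Digits as a function. -/
noncomputable def digFun (w m : ℕ) {d q : ℕ} [NeZero q] (a : ℕ) (hlt : ∀ j : Fin d, getP w a (m + j) / q < d)
    (j : Fin d) : Fin d × ZMod q :=
  (⟨_, hlt j⟩, ((getP w a (m + j) % q : ℕ) : ZMod q))

theorem monFun_left_inv {w a b : ℕ} (h : monHalf w m d q a b = true)
    (ha : ∀ j : Fin d, getP w a (m + j) / q < d) (hb : ∀ j : Fin d, getP w b (m + j) / q < d)
    (x : Fin d × ZMod q) : monFun (digFun w m b hb) (monFun (digFun w m a ha) x) = x := by
  obtain ⟨-, h1, h2⟩ := monHalf_spec h x.1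
  refine Prod.ext (Fin.ext h1) ?_
  show ((getP w b (m + getP w a (m + x.1) / q) % q : ℕ) : ZMod q) +
    (((getP w a (m + x.1) % q : ℕ) : ZMod q) + x.2) = x.2
  rw [← add_assoc, ← Nat.cast_add, ← ZMod.natCast_mod, h2, Nat.cast_zero, zero_add]

theorem exists_of_monCheck (e : α ≃ Fin m) {w : ℕ} (hm : m ≤ 2 ^ w) (hd : q * d ≤ 2 ^ w) {p : ℕ × ℕ}
    (h : monCheck w m d q p = true) : PairOK (monCoding w e hm hd) ⊤ p := by
  simp only [monCheck, Bool.and_eq_true] at h
  obtain ⟨⟨⟨⟨hp, ha⟩, hb⟩, h1⟩, h2⟩ := h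
  have la : ∀ j : Fin d, getP w p.1 (m + j) / q < d := fun j =>
    (Nat.div_lt_iff_lt_mul (NeZero.pos q)).2 (Nat.mul_comm q d ▸ (monHalf_spec ha j).1)
  have lb : ∀ j : Fin d, getP w p.2 (m + j) / q < d := fun j =>
    (Nat.div_lt_iff_lt_mul (NeZero.pos q)).2 (Nat.mul_comm q d ▸ (monHalf_spec hb j).1)
  let h' : monoSub d q :=
    ⟨{ toFun := monFun (digFun w m p.1 la)
       invFun := monFun (digFun w m p.2 lb)
       left_inv := monFun_left_inv ha la lb
       right_inv := monFun_left_inv hb lb la }, fun x t => Prod.ext rfl (add_assoc _ _ _).symm⟩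
  refine ⟨(permOfCode w e p.1 p.2 hp, h'), trivial, ?_, ?_⟩
  · refine Eq.trans (packP_congr fun i hi => ?_) (Nat.eq_of_beq_eq_true h1)
    by_cases him : i < m
    · rw [monImg_left e _ him]
      exact imgP_permOfCode w e _ _ hp him
    · obtain ⟨j, rfl⟩ := Nat.exists_eq_add_of_le (not_lt.1 him)
      rw [monImg_right e _ ⟨j, by omega⟩]
      simp [h', monFun, digFun, ZMod.val_natCast, Nat.div_add_mod]
  · refine Eq.trans (packP_congr fun i hi => ?_) (Nat.eq_of_beq_eq_true h2)
    by_cases him : i < m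
    · rw [monImg_left e _ him]
      exact imgP_permOfCode_inv w e _ _ hp him
    · obtain ⟨j, rfl⟩ := Nat.exists_eq_add_of_le (not_lt.1 him)
      rw [monImg_right e _ ⟨j, by omega⟩]
      simp [h', monFun, digFun, ZMod.val_natCast, Nat.div_add_mod, Equiv.Perm.inv_def]

theorem gensOK_monomial (e : α ≃ Fin m) {w : ℕ} (hm : m ≤ 2 ^ w) (hd : q * d ≤ 2 ^ w)
    {S : List (ℕ × ℕ)} (h : S.all (monCheck w m d q) = true) : GensOK (monCoding w e hm hd) S :=
  fun p hp => exists_of_monCheck e hm hd (List.all_eq_true.1 h p hp)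

end Cfsg.Agent.Lib.Compute.Monomial
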