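import Cfsg.Agent.Lib.Compute.Monomial.Coding
import Cfsg.Agent.Lib.Compute.Simple
import Cfsg.Agent.Lib.Compute.Schur.Bound
import Cfsg.Agent.Lib.Compute.AutBound

/-!
# A stem extension read off from a certified monomial group

The first factor of the coded pairs gives a map onto a certified permutation group; a product of
commutators which is central, acts trivially there and has order `k` is a generator of the kernel when
the orders differ by the factor `k`.
-/

set_option autoImplicit false

namespace Cfsg.Agent.Lib.Compute.Monomial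

open scoped commutatorElement

variable {α : Type*} {m d q : ℕ} [NeZero q]

/-- The pairs project to the given permutation codes. -/
noncomputable def projCheck (w w' m : ℕ) (X S : List (ℕ × ℕ)) : Bool :=
  Nat.beq X.length S.length &&
  (List.range X.length).all fun i => (List.range m).all fun j =>
    Nat.beq (getP w (X.getD i (0, 0)).1 j) (getP w' (S.getD i (0, 0)).1 j)

/-- Code of a product of commutators of elements given by paths. -/
noncomputable def commProd (O : Ops) (L : List Lvl) : List (List ℕ × List ℕ) → ℕ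
  | [] => O.one
  | ab :: ps =>
    forceNat (pathEval O L ab.1).1 fun a => forceNat (pathEval O L ab.1).2 fun a' =>
    forceNat (pathEval O L ab.2).1 fun b => forceNat (pathEval O L ab.2).2 fun b' =>
      O.mul (O.mul (O.mul (O.mul a b) a') b') (commProd O L ps)

/-- The product of commutators is central, trivial on the points and of order `k`. -/
noncomputable def monKerCheck (O : Ops) (w m k : ℕ) (X : List (ℕ × ℕ)) (L : List Lvl)
    (ps : List (List ℕ × List ℕ)) : Bool :=
  forceNat (commProd O L ps) fun z =>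
    (List.range m).all (fun j => Nat.beq (getP w z j) j) &&
    X.all (fun p => Nat.beq (O.mul z p.1) (O.mul p.1 z)) &&
    Nat.beq (powC O z k) O.one &&
    (List.range k).all (fun i => Nat.beq i 0 || !Nat.beq (powC O z i) O.one)

theorem exists_commProd {G : Type*} [Group G] [Finite G] {O : Ops} (C : Coding G O) {X : List (ℕ × ℕ)}
    (hX : GensOK C X) {L : List Lvl} (hL : chainCheck O X L = true) :
    ∀ ps : List (List ℕ × List ℕ), ∃ g : genGroup C X, g ∈ commutator (genGroup C X) ∧
      C.enc (g : G) = commProd O L ps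
  | [] => ⟨1, one_mem _, C.one_enc⟩
  | ab :: ps => by
    obtain ⟨r, hr, er⟩ := exists_commProd C hX hL ps
    obtain ⟨x, hx, x1, x2⟩ := pairOK_pathEval C hX hL ab.1
    obtain ⟨y, hy, y1, y2⟩ := pairOK_pathEval C hX hL ab.2
    refine ⟨⁅(⟨x, hx⟩ : genGroup C X), ⟨y, hy⟩⁆ * r, mul_mem
      (Subgroup.commutator_mem_commutator (Subgroup.mem_top _) (Subgroup.mem_top _)) hr, ?_⟩
    simp only [commProd, forceNat_eq, commutatorElement_def, Subgroup.coe_mul, Subgroup.coe_inv,
      ← C.mul_enc, x1, x2, y1, y2, er]

theorem exists_monomial_cover_spec (e : α ≃ Fin m) {w w' k : ℕ} (hm : m ≤ 2 ^ w) (hd : q * d ≤ 2 ^ w)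
    (hm' : m ≤ 2 ^ w') {X S : List (ℕ × ℕ)} (hX : GensOK (monCoding w e hm hd) X)
    (hS : GensOK (permCoding w' e hm') S) (hproj : projCheck w w' m X S = true) {L : List Lvl}
    (hL : chainCheck (monOps w m d q) X L = true) {LS : List Lvl}
    (hLS : chainCheck (permOps w' m) S LS = true) (hsize : chainSize L = k * chainSize LS)
    {ps : List (List ℕ × List ℕ)} (hker : monKerCheck (monOps w m d q) w m k X L ps = true) :
    ∃ τ : genGroup (monCoding w e hm hd) X →* genGroup (permCoding w' e hm') S,
      (∀ g, (τ g : Equiv.Perm α) = (g : Equiv.Perm α × monoSub d q).1) ∧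
        Cfsg.IsStemExtension τ ∧ Nat.card τ.ker = k ∧ IsCyclic τ.ker := by
  haveI : Finite α := Finite.of_equiv _ e.symm
  let C := monCoding w e hm hd
  let C' := permCoding w' e hm'
  simp only [projCheck, Bool.and_eq_true, List.all_eq_true, List.mem_range] at hproj
  obtain ⟨hlen, hp⟩ := hproj
  have hlen := Nat.eq_of_beq_eq_true hlen
  have hfst : ∀ (g : Equiv.Perm α × monoSub d q) (i : ℕ), i < X.length → C.enc g = (X.getD i (0, 0)).1 →
      ∀ h : Equiv.Perm α, C'.enc h = (S.getD i (0, 0)).1 → g.1 = h := by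
    intro g i hi hg h hh
    refine C'.inj ?_
    rw [permCoding_enc, permCoding_enc]
    refine packP_congr fun j hj => ?_
    have := Nat.eq_of_beq_eq_true (hp i hi j hj)
    rw [← hg, ← hh, monCoding_enc, getP_monImg hm hd e g (by omega), monImg_left e g hj,
      permCoding_enc, getP_encP hm' e h hj] at this
    exact this
  have hmap : ∀ g : genGroup C X, (g : Equiv.Perm α × monoSub d q).1 ∈ genGroup C' S := by
    have hle : genGroup C X ≤ (genGroup C' S).comap (MonoidHom.fst _ _) := by
      refine (Subgroup.closure_le _).2 ?_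
      rintro g ⟨p, hp', hg⟩
      obtain ⟨i, hi, rfl⟩ := List.getElem_of_mem hp'
      have hi' : i < S.length := hlen ▸ hi
      obtain ⟨h, -, hh, -⟩ := hS S[i] (List.getElem_mem hi')
      show g.1 ∈ genGroup C' S
      rw [hfst g i hi (by rw [hg, List.getD_eq_getElem]) h (by rw [hh, List.getD_eq_getElem])]
      exact mem_genGroup_of_enc _ (List.getElem_mem hi') hh
    exact fun g => hle g.2
  let τ : genGroup C X →* genGroup C' S :=
    ((MonoidHom.fst _ _).comp (genGroup C X).subtype).codRestrict _ hmap
  have hsurj : Function.Surjective τ := by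
    rintro ⟨h, hh⟩
    have hle' : genGroup C' S ≤ (genGroup C X).map (MonoidHom.fst _ _) := by
      refine (Subgroup.closure_le _).2 ?_
      rintro h ⟨p, hp', hhp⟩
      obtain ⟨i, hi, rfl⟩ := List.getElem_of_mem hp'
      have hi' : i < X.length := hlen.symm ▸ hi
      obtain ⟨g, -, hg, -⟩ := hX X[i] (List.getElem_mem hi')
      exact ⟨g, mem_genGroup_of_enc _ (List.getElem_mem hi') hg,
        hfst g i hi' (by rw [hg, List.getD_eq_getElem]) h (by rw [hhp, List.getD_eq_getElem])⟩
    obtain ⟨g, hg, hgh⟩ := hle' hh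
    exact ⟨⟨g, hg⟩, Subtype.ext hgh⟩
  have hcard : Nat.card τ.ker = k := by
    have h1 := Subgroup.card_mul_index τ.ker
    rw [Subgroup.index_ker, MonoidHom.range_eq_top.2 hsurj, Subgroup.card_top,
      card_genGroup C hX hL, card_genGroup C' hS hLS, hsize] at h1
    have hpos : 0 < chainSize LS := by
      rw [← card_genGroup C' hS hLS]; exact Nat.card_pos
    exact Nat.eq_of_mul_eq_mul_right hpos h1
  obtain ⟨z, hzc, ez⟩ := exists_commProd C hX hL ps
  simp only [monKerCheck, forceNat_eq, Bool.and_eq_true, List.all_eq_true, List.mem_range,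
    Bool.or_eq_true, Bool.not_eq_true'] at hker
  obtain ⟨⟨⟨hfix, hcen⟩, hpow⟩, hne⟩ := hker
  rw [← ez] at hfix hcen hpow hne
  have hk0 : 0 < k := hcard ▸ Nat.card_pos
  have hzker : z ∈ τ.ker := by
    refine Subtype.ext (C'.inj ?_)
    show C'.enc (z : Equiv.Perm α × monoSub d q).1 = C'.enc 1
    rw [C'.one_enc, permCoding_enc]
    refine packP_congr fun j hj => ?_
    have := Nat.eq_of_beq_eq_true (hfix j hj)
    rwa [monCoding_enc, getP_monImg hm hd e _ (by omega), monImg_left e _ hj] at this
  have hzcen : z ∈ Subgroup.center (genGroup C X) := by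
    have hle : genGroup C X ≤ Subgroup.centralizer {(z : Equiv.Perm α × monoSub d q)} := by
      refine (Subgroup.closure_le _).2 ?_
      rintro g ⟨p, hp', hg⟩
      have := Nat.eq_of_beq_eq_true (hcen p hp')
      rw [← hg, C.mul_enc, C.mul_enc] at this
      exact Subgroup.mem_centralizer_singleton_iff.2 (C.inj this).symm
    exact Subgroup.mem_center_iff.2 fun g =>
      Subtype.ext (Subgroup.mem_centralizer_singleton_iff.1 (hle g.2))
  have hord : orderOf z = k := by
    refine (orderOf_eq_iff hk0).2 ⟨Subtype.ext (C.inj ?_), fun i hi hi0 h => ?_⟩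
    · rw [Subgroup.coe_pow, Subgroup.coe_one, ← powC_enc, C.one_enc]
      exact Nat.eq_of_beq_eq_true hpow
    · rcases hne i hi with h0 | h0
      · exact hi0.ne' (Nat.eq_of_beq_eq_true h0)
      · rw [powC_enc, ← Subgroup.coe_pow, h, Subgroup.coe_one, C.one_enc] at h0
        simp at h0
  have heq : Subgroup.zpowers z = τ.ker :=
    Subgroup.eq_of_le_of_card_ge ((Subgroup.zpowers_le).2 hzker) (by rw [Nat.card_zpowers, hord, hcard])
  refine ⟨τ, fun _ => rfl, ⟨hsurj, ?_, ?_⟩, hcard, ?_⟩
  · exact heq ▸ (Subgroup.zpowers_le).2 hzcen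
  · exact heq ▸ (Subgroup.zpowers_le).2 hzc
  · exact heq ▸ inferInstanceAs (IsCyclic (Subgroup.zpowers z))

theorem exists_monomial_cover (e : α ≃ Fin m) {w w' k : ℕ} (hm : m ≤ 2 ^ w) (hd : q * d ≤ 2 ^ w)
    (hm' : m ≤ 2 ^ w') {X S : List (ℕ × ℕ)} (hX : GensOK (monCoding w e hm hd) X)
    (hS : GensOK (permCoding w' e hm') S) (hproj : projCheck w w' m X S = true) {L : List Lvl}
    (hL : chainCheck (monOps w m d q) X L = true) {LS : List Lvl}
    (hLS : chainCheck (permOps w' m) S LS = true) (hsize : chainSize L = k * chainSize LS)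
    {ps : List (List ℕ × List ℕ)} (hker : monKerCheck (monOps w m d q) w m k X L ps = true) :
    ∃ τ : genGroup (monCoding w e hm hd) X →* genGroup (permCoding w' e hm') S,
      Cfsg.IsStemExtension τ ∧ Nat.card τ.ker = k ∧ IsCyclic τ.ker := by
  obtain ⟨τ, -, h⟩ := exists_monomial_cover_spec e hm hd hm' hX hS hproj hL hLS hsize hker
  exact ⟨τ, h⟩

end Cfsg.Agent.Lib.Compute.Monomial
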